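import Mathlib
import Groth.Agent.H11Tilde.GammaStar.Module

/-!
# Extension of a graded module along a Veronese subring
-/

set_option autoImplicit false
set_option linter.style.haveILetI false
set_option linter.unusedSectionVars false

noncomputable section

universe u

open scoped TensorProduct
open DirectSum

namespace Groth.Agent.H10Coh.ProjTilde

variable {R A B N : Type u} [CommRing R] [CommRing A] [Algebra R A] (𝒜 : ℕ → Submodule R A) [GradedAlgebra 𝒜]
  [CommRing B] [Algebra R B] (ℬ : ℕ → Submodule R B) [GradedAlgebra ℬ] [Algebra B A] [IsScalarTower R B A]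
  [AddCommGroup N] [Module R N] [Module B N] [IsScalarTower R B N] (𝒩 : ℕ → Submodule R N)
  [DirectSum.Decomposition 𝒩] [SetLike.GradedSMul ℬ 𝒩] (d : ℕ)

/-- The pieces of `A ⊗_B N`. -/
def ind (k : ℕ) : Submodule R (A ⊗[B] N) :=
  Submodule.span R {z | ∃ j m, j + m * d = k ∧ ∃ a ∈ 𝒜 j, ∃ n ∈ 𝒩 m, z = a ⊗ₜ[B] n}

/-- One summand of the projection. -/
def cmp (k m : ℕ) : A →+ N →+ A ⊗[B] N :=
  AddMonoidHom.mk' (fun a => AddMonoidHom.mk' (fun n =>
    if m * d ≤ k then (DirectSum.decompose 𝒜 a (k - m * d) : A) ⊗ₜ[B] (DirectSum.decompose 𝒩 n m : N) else 0)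
    (fun x y => by
      by_cases h : m * d ≤ k
      · simp [h, TensorProduct.tmul_add]
      · simp [h]))
    (fun x y => by
      ext n
      by_cases h : m * d ≤ k
      · simp [h, TensorProduct.add_tmul]
      · simp [h])

theorem cmp_apply (k m : ℕ) (a : A) (n : N) : cmp (B := B) 𝒜 𝒩 d k m a n =
    if m * d ≤ k then (DirectSum.decompose 𝒜 a (k - m * d) : A) ⊗ₜ[B] (DirectSum.decompose 𝒩 n m : N) else 0 := rfl

variable (hd : 0 < d)

/-- The bilinear form of the projection. -/
def prj (k : ℕ) : A →+ N →+ A ⊗[B] N := ∑ m ∈ Finset.range (k + 1), cmp 𝒜 𝒩 d k m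

include hd in
theorem prj_hom (k : ℕ) {j m : ℕ} {a : A} (ha : a ∈ 𝒜 j) {n : N} (hn : n ∈ 𝒩 m) :
    prj (B := B) 𝒜 𝒩 d k a n = if j + m * d = k then a ⊗ₜ[B] n else 0 := by
  classical
  simp only [prj, AddMonoidHom.finsetSum_apply, cmp_apply]
  rw [Finset.sum_eq_single m]
  · by_cases h : j + m * d = k
    · rw [if_pos (by omega : m * d ≤ k), if_pos h, DirectSum.decompose_of_mem_same 𝒩 hn,
        show k - m * d = j by omega, DirectSum.decompose_of_mem_same 𝒜 ha]
    · rw [if_neg h]
      by_cases hle : m * d ≤ k
      · rw [if_pos hle, DirectSum.decompose_of_mem_ne 𝒜 ha (by omega), TensorProduct.zero_tmul]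
      · rw [if_neg hle]
  · intro m' _ hne
    rw [DirectSum.decompose_of_mem_ne 𝒩 hn (Ne.symm hne), TensorProduct.tmul_zero, ite_self]
  · intro hm
    rw [Finset.mem_range] at hm
    rw [if_neg (fun hle => hm (by nlinarith))]

variable (hB : ∀ (l : ℕ) (b : B), b ∈ ℬ l → algebraMap B A b ∈ 𝒜 (l * d))

include hd hB in
theorem prj_smul (k : ℕ) (b : B) (a : A) (n : N) :
    prj (B := B) 𝒜 𝒩 d k (b • a) n = prj (B := B) 𝒜 𝒩 d k a (b • n) := by
  induction b using DirectSum.Decomposition.inductionOn ℬ with
  | zero => simp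
  | @homogeneous l b =>
    induction a using DirectSum.Decomposition.inductionOn 𝒜 with
    | zero => simp
    | @homogeneous j a =>
      induction n using DirectSum.Decomposition.inductionOn 𝒩 with
      | zero => simp
      | @homogeneous m n =>
        have h1 : (b : B) • (a : A) ∈ 𝒜 (l * d + j) := by
          rw [Algebra.smul_def]; exact SetLike.mul_mem_graded (hB l b b.2) a.2
        have h2 : (b : B) • (n : N) ∈ 𝒩 (l + m) := SetLike.GradedSMul.smul_mem b.2 n.2
        rw [prj_hom 𝒜 𝒩 d hd k h1 n.2, prj_hom 𝒜 𝒩 d hd k a.2 h2]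
        by_cases h : l * d + j + m * d = k
        · rw [if_pos h, if_pos (by rw [← h]; ring), TensorProduct.smul_tmul]
        · rw [if_neg h, if_neg fun h' => h (by rw [← h']; ring)]
      | add x y hx hy => simp only [map_add, smul_add, hx, hy]
    | add x y hx hy => simp only [map_add, AddMonoidHom.add_apply, smul_add, hx, hy]
  | add x y hx hy => simp only [add_smul, map_add, AddMonoidHom.add_apply, hx, hy]

/-- The projection. -/
def indProj (k : ℕ) : A ⊗[B] N →+ A ⊗[B] N :=
  TensorProduct.liftAddHom (prj 𝒜 𝒩 d k) (fun b a n => prj_smul 𝒜 ℬ 𝒩 d hd hB k b a n)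

theorem indProj_tmul (k : ℕ) {j m : ℕ} {a : A} (ha : a ∈ 𝒜 j) {n : N} (hn : n ∈ 𝒩 m) :
    indProj 𝒜 ℬ 𝒩 d hd hB k (a ⊗ₜ n) = if j + m * d = k then a ⊗ₜ[B] n else 0 :=
  (TensorProduct.liftAddHom_tmul _ _ _ _).trans (prj_hom 𝒜 𝒩 d hd k ha hn)

theorem indProj_smul (k : ℕ) (r : R) (z : A ⊗[B] N) :
    indProj 𝒜 ℬ 𝒩 d hd hB k (r • z) = r • indProj 𝒜 ℬ 𝒩 d hd hB k z := by
  induction z using TensorProduct.induction_on with
  | zero => simp
  | add x y hx hy => rw [smul_add, map_add, map_add, hx, hy, smul_add]
  | tmul a n =>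
    induction a using DirectSum.Decomposition.inductionOn 𝒜 with
    | zero => simp
    | add x y hx hy => rw [TensorProduct.add_tmul, smul_add, map_add, map_add, hx, hy, smul_add]
    | @homogeneous j a =>
      induction n using DirectSum.Decomposition.inductionOn 𝒩 with
      | zero => simp
      | add x y hx hy => rw [TensorProduct.tmul_add, smul_add, map_add, map_add, hx, hy, smul_add]
      | @homogeneous m n =>
        rw [TensorProduct.smul_tmul', indProj_tmul 𝒜 ℬ 𝒩 d hd hB k (Submodule.smul_mem _ r a.2) n.2,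
          indProj_tmul 𝒜 ℬ 𝒩 d hd hB k a.2 n.2, smul_ite, smul_zero, TensorProduct.smul_tmul']

/-- The decomposition. -/
@[instance_reducible]
def indDecomposition : DirectSum.Decomposition (ind (B := B) 𝒜 𝒩 d) :=
  H11Tilde.decompositionOfProj (ind (B := B) 𝒜 𝒩 d) (indProj 𝒜 ℬ 𝒩 d hd hB)
    (fun k z => by
      induction z using TensorProduct.induction_on with
      | zero => simp
      | add x y hx hy => rw [map_add]; exact add_mem hx hy
      | tmul a n =>
        induction a using DirectSum.Decomposition.inductionOn 𝒜 with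
        | zero => simp
        | add x y hx hy => rw [TensorProduct.add_tmul, map_add]; exact add_mem hx hy
        | @homogeneous j a =>
          induction n using DirectSum.Decomposition.inductionOn 𝒩 with
          | zero => simp
          | add x y hx hy => rw [TensorProduct.tmul_add, map_add]; exact add_mem hx hy
          | @homogeneous m n =>
            rw [indProj_tmul 𝒜 ℬ 𝒩 d hd hB k a.2 n.2]
            split_ifs with h
            · exact Submodule.subset_span ⟨j, m, h, a, a.2, n, n.2, rfl⟩
            · exact zero_mem _)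
    (fun k z hz => by
      induction hz using Submodule.span_induction with
      | mem x hx =>
        obtain ⟨j, m, h, a, ha, n, hn, rfl⟩ := hx
        rw [indProj_tmul 𝒜 ℬ 𝒩 d hd hB k ha hn, if_pos h]
      | zero => simp
      | add x y _ _ hx hy => rw [map_add, hx, hy]
      | smul r x _ hx => rw [indProj_smul, hx])
    (fun k l hkl z hz => by
      induction hz using Submodule.span_induction with
      | mem x hx =>
        obtain ⟨j, m, h, a, ha, n, hn, rfl⟩ := hx
        rw [indProj_tmul 𝒜 ℬ 𝒩 d hd hB k ha hn, if_neg fun h' => hkl (h'.symm.trans h)]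
      | zero => simp
      | add x y _ _ hx hy => rw [map_add, hx, hy, add_zero]
      | smul r x _ hx => rw [indProj_smul, hx, smul_zero])
    (fun z => by
      classical
      let G := indProj 𝒜 ℬ 𝒩 d hd hB
      suffices h : ∃ K, ∀ K' ≥ K, ∑ k ∈ Finset.range K', G k z = z by
        obtain ⟨K, hK⟩ := h
        exact ⟨_, hK K le_rfl⟩
      induction z using TensorProduct.induction_on with
      | zero => exact ⟨0, fun K _ => by simp⟩
      | add x y hx hy =>
        obtain ⟨K, hK⟩ := hx
        obtain ⟨L, hL⟩ := hy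
        exact ⟨K + L, fun K' hK' => by
          simp only [map_add, Finset.sum_add_distrib, hK K' (by omega), hL K' (by omega)]⟩
      | tmul a n =>
        induction a using DirectSum.Decomposition.inductionOn 𝒜 with
        | zero => exact ⟨0, fun K _ => by simp⟩
        | add x y hx hy =>
          obtain ⟨K, hK⟩ := hx
          obtain ⟨L, hL⟩ := hy
          exact ⟨K + L, fun K' hK' => by
            simp only [TensorProduct.add_tmul, map_add, Finset.sum_add_distrib, hK K' (by omega), hL K' (by omega)]⟩
        | @homogeneous j a =>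
          induction n using DirectSum.Decomposition.inductionOn 𝒩 with
          | zero => exact ⟨0, fun K _ => by simp⟩
          | add x y hx hy =>
            obtain ⟨K, hK⟩ := hx
            obtain ⟨L, hL⟩ := hy
            exact ⟨K + L, fun K' hK' => by
              simp only [TensorProduct.tmul_add, map_add, Finset.sum_add_distrib, hK K' (by omega), hL K' (by omega)]⟩
          | @homogeneous m n =>
            refine ⟨j + m * d + 1, fun K' hK' => ?_⟩
            simp only [G, indProj_tmul 𝒜 ℬ 𝒩 d hd hB _ a.2 n.2]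
            rw [Finset.sum_ite_eq, if_pos (Finset.mem_range.2 (by omega))])

include hd hB in
theorem gradedSMul_ind : SetLike.GradedSMul 𝒜 (ind (B := B) 𝒜 𝒩 d) where
  smul_mem {i k} c z hc hz := by
    induction hz using Submodule.span_induction with
    | mem x hx =>
      obtain ⟨j, m, h, a, ha, n, hn, rfl⟩ := hx
      refine Submodule.subset_span ⟨i + j, m, by simp only [vadd_eq_add]; omega, c * a,
        SetLike.mul_mem_graded hc ha, n, hn, ?_⟩
      rw [TensorProduct.smul_tmul', smul_eq_mul]
    | zero => simp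
    | add x y _ _ hx hy => rw [smul_add]; exact add_mem hx hy
    | smul r x _ hx => rw [smul_comm]; exact Submodule.smul_mem _ r hx

end Groth.Agent.H10Coh.ProjTilde
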