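import Groth.Agent.H10Coh.ProjTilde.Veronese
import Groth.Agent.H10Coh.ProjTilde.Induce
import Groth.Agent.S3551
import Groth.Agent.S3580
import Groth.Agent.S9579
import Groth.Agent.LeadUV.Adic

/-!
# Coherent modules on the Proj of a Noetherian graded algebra
-/

set_option autoImplicit false
set_option linter.style.haveILetI false
set_option linter.unusedSectionVars false
set_option backward.isDefEq.respectTransparency.types false

noncomputable section

universe u

open CategoryTheory CategoryTheory.Limits AlgebraicGeometry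
open scoped TensorProduct

namespace Groth.Agent.H10Coh.ProjTilde

variable {R A : Type u} [CommRing R] [CommRing A] [Algebra R A] (𝒜 : ℕ → Submodule R A) [GradedAlgebra 𝒜] (d : ℕ)

/-- The retraction onto the Veronese subalgebra on a piece. -/
def retPiece (k : ℕ) : 𝒜 k →+ ver 𝒜 d :=
  if h : d ∣ k then
    AddMonoidHom.mk' (fun a => ⟨a, mem_ver_of_mem 𝒜 d (n := k / d) (by rw [Nat.div_mul_cancel h]; exact a.2)⟩)
      (fun _ _ => rfl)
  else 0

/-- The retraction onto the Veronese subalgebra. -/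
def ret : A →+ ver 𝒜 d :=
  (DirectSum.toAddMonoid (retPiece 𝒜 d)).comp (DirectSum.decomposeAddEquiv 𝒜).toAddMonoidHom

theorem ret_hom {k : ℕ} {a : A} (ha : a ∈ 𝒜 k) :
    ((ret 𝒜 d a : ver 𝒜 d) : A) = if d ∣ k then a else 0 := by
  classical
  show ((DirectSum.toAddMonoid (retPiece 𝒜 d) (DirectSum.decompose 𝒜 a) : ver 𝒜 d) : A) = _
  rw [DirectSum.decompose_of_mem 𝒜 ha, DirectSum.toAddMonoid_of, retPiece]
  by_cases h : d ∣ k
  · rw [dif_pos h, if_pos h]; rfl
  · rw [dif_neg h, if_neg h]; rfl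

/-- It is linear. -/
def retLin (hd : 0 < d) : A →ₗ[ver 𝒜 d] ver 𝒜 d where
  toFun := ret 𝒜 d
  map_add' := map_add _
  map_smul' b a := by
    letI := verGradedAlgebra 𝒜 d hd
    induction b using DirectSum.Decomposition.inductionOn (verGrading 𝒜 d) with
    | zero => simp
    | add x y hx hy => simp only [RingHom.id_apply] at hx hy ⊢; rw [add_smul, map_add, hx, hy, add_smul]
    | @homogeneous l b =>
      induction a using DirectSum.Decomposition.inductionOn 𝒜 with
      | zero => simp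
      | add x y hx hy => simp only [RingHom.id_apply] at hx hy ⊢; rw [smul_add, map_add, hx, hy, map_add, smul_add]
      | @homogeneous k a =>
        have h1 : ((b : ver 𝒜 d) : A) * (a : A) ∈ 𝒜 (l * d + k) := SetLike.mul_mem_graded b.2 a.2
        refine Subtype.ext ?_
        simp only [RingHom.id_apply, smul_eq_mul, MulMemClass.coe_mul]
        show (ret 𝒜 d (((b : ver 𝒜 d) : A) * (a : A)) : A) = _
        rw [ret_hom 𝒜 d h1, ret_hom 𝒜 d a.2]
        by_cases h : d ∣ k
        · rw [if_pos h, if_pos (dvd_add (dvd_mul_left d l) h)]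
        · rw [if_neg h, if_neg fun h' => h ((Nat.dvd_add_right (dvd_mul_left d l)).1 h'), mul_zero]

theorem exists_tilde [IsNoetherianRing A] (F : (Proj 𝒜).Modules) (hF : Coh.IsCoh F) :
    ∃ (M : Type u) (_ : AddCommGroup M) (_ : Module R M) (_ : Module A M) (_ : IsScalarTower R A M)
      (ℳ : ℕ → Submodule R M) (_ : DirectSum.Decomposition ℳ) (_ : SetLike.GradedSMul 𝒜 ℳ),
      Module.Finite A M ∧ Nonempty (GrTilde.tilde 𝒜 ℳ 0 ≅ F) := by
  classical
  obtain ⟨d, hd, hN, s, hs1, hs⟩ := exists_degree 𝒜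
  letI := verGradedAlgebra 𝒜 d hd
  let φ := (ver 𝒜 d).val
  have hdeg := map_verGrading 𝒜 d
  obtain ⟨e, -, he⟩ := S3580.result 𝒜 (verGrading 𝒜 d) d hd φ Subtype.val_injective hdeg
  have hF' := LeadUV.isCoh_pullback' e.inv hF
  obtain ⟨N, _, _, _, _, 𝒩, _, _, hfin, ⟨i⟩⟩ := S3551.result (verGrading 𝒜 d) s hs1 hs _ hF'.1 hF'.2
  have hB : ∀ (l : ℕ) (b : ver 𝒜 d), b ∈ verGrading 𝒜 d l → algebraMap (ver 𝒜 d) A b ∈ 𝒜 (l * d) := fun l b hb => hb
  let M := A ⊗[ver 𝒜 d] N
  let ℳ := ind (B := ver 𝒜 d) 𝒜 𝒩 d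
  letI dec : DirectSum.Decomposition ℳ := indDecomposition 𝒜 (verGrading 𝒜 d) 𝒩 d hd hB
  haveI hsm : SetLike.GradedSMul 𝒜 ℳ := gradedSMul_ind 𝒜 (verGrading 𝒜 d) 𝒩 d hd hB
  haveI : Module.Finite A M := inferInstance
  let v : N →ₛₗ[φ.toRingHom] M :=
    { toFun := fun n => (1 : A) ⊗ₜ n
      map_add' := fun x y => TensorProduct.tmul_add _ _ _
      map_smul' := fun b n => by
        rw [← TensorProduct.smul_tmul, TensorProduct.smul_tmul']
        rfl }
  have hvinj : Function.Injective v := by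
    refine Function.LeftInverse.injective
      (g := (TensorProduct.lid (ver 𝒜 d) N).toLinearMap.comp ((retLin 𝒜 d hd).rTensor N)) fun n => ?_
    show TensorProduct.lid (ver 𝒜 d) N ((retLin 𝒜 d hd).rTensor N ((1 : A) ⊗ₜ n)) = n
    rw [LinearMap.rTensor_tmul, TensorProduct.lid_tmul]
    have h1 : retLin 𝒜 d hd (1 : A) = 1 := Subtype.ext (by
      show (ret 𝒜 d 1 : A) = 1
      rw [ret_hom 𝒜 d (SetLike.one_mem_graded 𝒜), if_pos (dvd_zero d)])
    rw [h1, one_smul]
  have hvdeg : ∀ n : ℕ, (𝒩 n : Set N).image v = (ℳ (n * d) : Set M) := by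
    intro n
    refine Set.Subset.antisymm ?_ fun z hz => ?_
    · rintro _ ⟨x, hx, rfl⟩
      exact Submodule.subset_span ⟨0, n, zero_add _, 1, SetLike.one_mem_graded 𝒜, x, hx, rfl⟩
    induction hz using Submodule.span_induction with
    | mem z hz =>
      obtain ⟨j, m, h, a, ha, y, hy, rfl⟩ := hz
      have hm : m ≤ n := by nlinarith
      have ha' : a ∈ 𝒜 ((n - m) * d) := by
        rwa [show j = (n - m) * d by rw [Nat.sub_mul]; omega] at ha
      let b : ver 𝒜 d := ⟨a, mem_ver_of_mem 𝒜 d ha'⟩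
      refine ⟨b • y, ?_, ?_⟩
      · have h2 : b • y ∈ 𝒩 ((n - m) + m) := SetLike.GradedSMul.smul_mem (A := verGrading 𝒜 d) ha' hy
        rwa [Nat.sub_add_cancel hm] at h2
      · show (1 : A) ⊗ₜ[ver 𝒜 d] (b • y) = a ⊗ₜ y
        rw [← TensorProduct.smul_tmul, Algebra.smul_def, mul_one]
        rfl
    | zero => exact ⟨0, zero_mem _, map_zero _⟩
    | add x y _ _ hx hy =>
      obtain ⟨x', hx', rfl⟩ := hx
      obtain ⟨y', hy', rfl⟩ := hy
      exact ⟨x' + y', add_mem hx' hy', map_add _ _ _⟩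
    | smul r x _ hx =>
      obtain ⟨x', hx', rfl⟩ := hx
      refine ⟨r • x', Submodule.smul_mem _ r hx', ?_⟩
      show (1 : A) ⊗ₜ[ver 𝒜 d] (r • x') = r • ((1 : A) ⊗ₜ[ver 𝒜 d] x')
      rw [TensorProduct.tmul_smul]
  obtain ⟨j⟩ := S9579.result 𝒜 (verGrading 𝒜 d) d hd φ Subtype.val_injective hdeg e he ℳ 𝒩 v hvinj hvdeg
  exact ⟨M, inferInstance, inferInstance, inferInstance, inferInstance, ℳ, dec, hsm, inferInstance,
    ⟨j ≪≫ (Scheme.Modules.pullback e.hom).mapIso i ≪≫ (Scheme.Modules.pullbackComp e.hom e.inv).app F ≪≫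
      (Scheme.Modules.pullbackCongr e.hom_inv_id).app F ≪≫ (Scheme.Modules.pullbackId _).app F⟩⟩

end Groth.Agent.H10Coh.ProjTilde
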