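import Groth.Agent.H11Proj.Monomials
import Groth.Agent.H11Proj.Veronese
import Groth.Agent.H11Tilde.GammaStar.Module

/-!
# The Veronese subring of a graded algebra and extension of graded modules
-/

set_option autoImplicit false
set_option linter.style.haveILetI false
set_option linter.unusedSectionVars false

noncomputable section

universe u

open DirectSum

namespace Groth.Agent.H10Coh.ProjTilde

variable {R A : Type u} [CommRing R] [CommRing A] [Algebra R A] (𝒜 : ℕ → Submodule R A) [GradedAlgebra 𝒜] (d : ℕ)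

/-- The Veronese subalgebra. -/
def ver : Subalgebra R A where
  carrier := {a | ∀ k, ¬ d ∣ k → (DirectSum.decompose 𝒜 a k : A) = 0}
  zero_mem' k _ := by simp
  add_mem' {a b} ha hb k hk := by simp [ha k hk, hb k hk]
  algebraMap_mem' r k hk := by
    rw [DirectSum.decompose_of_mem_ne 𝒜 (SetLike.algebraMap_mem_graded 𝒜 r)]
    rintro rfl
    exact hk (dvd_zero d)
  mul_mem' {a b} ha hb k hk := by
    classical
    rw [DirectSum.decompose_mul, DirectSum.coe_mul_apply]
    refine Finset.sum_eq_zero fun p hp => ?_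
    rw [Finset.mem_filter] at hp
    by_cases h1 : d ∣ p.1
    · have h2 : ¬ d ∣ p.2 := fun h => hk (hp.2 ▸ dvd_add h1 h)
      rw [hb p.2 h2, mul_zero]
    · rw [ha p.1 h1, zero_mul]

/-- Its grading. -/
def verGrading (n : ℕ) : Submodule R (ver 𝒜 d) := (𝒜 (n * d)).comap (ver 𝒜 d).val.toLinearMap

theorem mem_verGrading {n : ℕ} {b : ver 𝒜 d} : b ∈ verGrading 𝒜 d n ↔ (b : A) ∈ 𝒜 (n * d) := Iff.rfl

theorem mem_ver_of_mem {n : ℕ} {a : A} (ha : a ∈ 𝒜 (n * d)) : a ∈ ver 𝒜 d := fun k hk =>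
  DirectSum.decompose_of_mem_ne 𝒜 ha fun h => hk (h ▸ dvd_mul_left d n)

/-- Projection to a piece. -/
def verProj (n : ℕ) : ver 𝒜 d →+ ver 𝒜 d :=
  AddMonoidHom.mk' (fun b => ⟨(DirectSum.decompose 𝒜 (b : A) (n * d) : A), mem_ver_of_mem 𝒜 d (Subtype.mem _)⟩)
    (fun a b => Subtype.ext (by simp))

variable (hd : 0 < d)

/-- The decomposition. -/
@[instance_reducible]
def verDecomposition : DirectSum.Decomposition (verGrading 𝒜 d) :=
  H11Tilde.decompositionOfProj (verGrading 𝒜 d) (verProj 𝒜 d)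
    (fun n b => (DirectSum.decompose 𝒜 (b : A) (n * d)).2)
    (fun n b hb => Subtype.ext (DirectSum.decompose_of_mem_same 𝒜 hb))
    (fun n k hnk b hb => Subtype.ext (DirectSum.decompose_of_mem_ne 𝒜 hb
      fun h => hnk (Nat.eq_of_mul_eq_mul_right hd h.symm)))
    (fun b => by
      classical
      refine ⟨(DirectSum.decompose 𝒜 (b : A)).support.image (· / d), Subtype.ext ?_⟩
      rw [AddSubmonoidClass.coe_finsetSum, Finset.sum_image]
      · refine (Finset.sum_congr rfl fun k hk => ?_).trans (DirectSum.sum_support_decompose 𝒜 (b : A))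
        show (DirectSum.decompose 𝒜 (b : A) (k / d * d) : A) = _
        by_cases hdk : d ∣ k
        · rw [Nat.div_mul_cancel hdk]
        · exact absurd (Subtype.ext (b.2 k hdk)) ((DFinsupp.mem_support_toFun (DirectSum.decompose 𝒜 (b : A)) k).1 hk)
      · intro i hi j hj hij
        have h : ∀ k ∈ (DirectSum.decompose 𝒜 (b : A)).support, d ∣ k := fun k hk => by
          by_contra h
          exact (DFinsupp.mem_support_toFun (DirectSum.decompose 𝒜 (b : A)) k).1 hk (Subtype.ext (b.2 k h))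
        exact (Nat.eq_mul_of_div_eq_left (h i hi) hij).trans (Nat.div_mul_cancel (h j hj)))

instance verGradedMonoid : SetLike.GradedMonoid (verGrading 𝒜 d) where
  one_mem := by
    rw [mem_verGrading, zero_mul]
    exact SetLike.one_mem_graded 𝒜
  mul_mem {i j} a b ha hb := by
    rw [mem_verGrading, add_mul]
    exact SetLike.mul_mem_graded (A := 𝒜) ha hb

/-- The graded algebra. -/
@[instance_reducible]
def verGradedAlgebra : GradedAlgebra (verGrading 𝒜 d) :=
  { verGradedMonoid 𝒜 d, verDecomposition 𝒜 d hd with }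

theorem map_verGrading (n : ℕ) :
    Submodule.map (ver 𝒜 d).val.toLinearMap (verGrading 𝒜 d n) = 𝒜 (n * d) :=
  le_antisymm (Submodule.map_comap_le _ _) fun a ha => ⟨⟨a, mem_ver_of_mem 𝒜 d ha⟩, ha, rfl⟩

/-- A Noetherian graded algebra has a Veronese subalgebra generated in degree one by finitely many elements. -/
theorem exists_degree [IsNoetherianRing A] :
    ∃ (d : ℕ) (hd : 0 < d), letI := verGradedAlgebra 𝒜 d hd
      IsNoetherianRing (ver 𝒜 d) ∧ ∃ s : Finset (ver 𝒜 d), (∀ f ∈ s, f ∈ verGrading 𝒜 d 1) ∧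
        (HomogeneousIdeal.irrelevant (verGrading 𝒜 d)).toIdeal = Ideal.span (s : Set (ver 𝒜 d)) := by
  classical
  obtain ⟨-, _⟩ := (H11Proj.isNoetherianRing_iff 𝒜).1 ‹_›
  obtain ⟨d, hd, hpow⟩ := H11Proj.exists_pow_degree_eq 𝒜
  letI := verGradedAlgebra 𝒜 d hd
  haveI hN : IsNoetherianRing (ver 𝒜 d) := H11Proj.veronese_isNoetherianRing 𝒜 (verGrading 𝒜 d) d (ver 𝒜 d).val
    (map_verGrading 𝒜 d) hd Subtype.val_injective
  have hspan : ∀ n, 0 < n → ∀ b : ver 𝒜 d, b ∈ verGrading 𝒜 d n →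
      b ∈ Ideal.span (verGrading 𝒜 d 1 : Set (ver 𝒜 d)) := by
    intro n hn
    obtain ⟨m, rfl⟩ : ∃ m, n = m + 1 := ⟨n - 1, by omega⟩
    intro b hb
    rw [mem_verGrading, hpow (m + 1) hn, pow_succ] at hb
    suffices h : ∃ b' ∈ Ideal.span (verGrading 𝒜 d 1 : Set (ver 𝒜 d)), (b' : A) = b by
      obtain ⟨b', hb', e⟩ := h
      rwa [← Subtype.ext e]
    refine Submodule.mul_induction_on hb (fun x hx y hy => ?_) fun x y ⟨x', hx', ex⟩ ⟨y', hy', ey⟩ => ?_
    · have hx' : x ∈ ver 𝒜 d := by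
        rcases Nat.eq_zero_or_pos m with rfl | hm
        · rw [pow_zero, Submodule.mem_one] at hx
          obtain ⟨r, rfl⟩ := hx
          exact (ver 𝒜 d).algebraMap_mem r
        · exact mem_ver_of_mem 𝒜 d ((hpow m hm).ge hx)
      have hy' : y ∈ 𝒜 (1 * d) := by rwa [one_mul]
      exact ⟨⟨x, hx'⟩ * ⟨y, mem_ver_of_mem 𝒜 d hy'⟩, Ideal.mul_mem_left _ _ (Ideal.subset_span hy'), rfl⟩
    · exact ⟨x' + y', add_mem hx' hy', by simp [ex, ey]⟩
  have hirr : (HomogeneousIdeal.irrelevant (verGrading 𝒜 d)).toIdeal =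
      Ideal.span (verGrading 𝒜 d 1 : Set (ver 𝒜 d)) := by
    refine le_antisymm (fun b hb => ?_) (Ideal.span_le.2 fun b hb =>
      HomogeneousIdeal.mem_irrelevant_of_mem (verGrading 𝒜 d) Nat.one_pos hb)
    rw [← DirectSum.sum_support_decompose (verGrading 𝒜 d) b]
    refine Ideal.sum_mem _ fun n hn => ?_
    rcases Nat.eq_zero_or_pos n with rfl | hpos
    · rw [show (DirectSum.decompose (verGrading 𝒜 d) b 0 : ver 𝒜 d) = 0 from hb]
      exact zero_mem _
    · exact hspan n hpos _ (Subtype.mem _)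
  obtain ⟨s, hs, hss⟩ := (Submodule.fg_span_iff_fg_span_finset_subset
    (R := ver 𝒜 d) (verGrading 𝒜 d 1 : Set (ver 𝒜 d))).1 (IsNoetherian.noetherian _)
  exact ⟨d, hd, hN, s, fun f hf => hs hf, hirr.trans hss⟩

end Groth.Agent.H10Coh.ProjTilde
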